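import Cfsg.Agent.H64.Dl.Tor
import Cfsg.Agent.H246.Dl.KType
import Cfsg.Agent.H53.HC.ExcIn
import Cfsg.Agent.ChevalleyStructure.HMatDiagAll

/-!
# Characters of different Harish-Chandra types in the exceptional groups (helper64, task DL-EXC-K of S4769)

`p` a prime dividing `q - 1`: `many_E6 : Many p S 5`, `many_E7 : Many p S 6`, `many_E8 : Many p S 7`,
`many_F4 : Many p S 4`, `many_TwE6 : Many p S 4`.
-/

set_option autoImplicit false
set_option linter.unusedSectionVars false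

namespace Cfsg.Agent.H64.Dl

open CoxeterSystem Cfsg.Agent.ChevalleyStructure.CoxeterGeom Cfsg.Agent.Tits.Roots Cfsg.Agent.Tits.Core
  Cfsg.Agent.Tits.Exchange Cfsg.Agent.Nodes.Reps Cfsg.Agent.Nodes.BNOf Cfsg.Agent.Nodes.StabComb
  Cfsg.Agent.Nodes.LeviDec
open Cfsg.Agent.LieRecognition.BNCox (cA cA_apply)
open Cfsg.Agent.H53.HC Cfsg.Agent.H53.HC.ExcRows Cfsg.Agent.H35.ExcIdx Cfsg.Agent.H246.Dl

universe u

section gen

variable {r q l : ℕ} {M : CoxeterMatrix (Fin l)} {A : Fin l → Fin l → ℤ} {h : IsCartan M A} {f : Fin l → ℕ}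
  {S : Type*} [Group S] {T : Subgroup S} {n : Fin l → S} {X : (Fin l → ℤ) → Subgroup S}

/-- a chain of nodes, one node included -/
theorem in_path [Finite S] {J : Set (Fin l)} (D : ExcData r q h f J T n X) (hb : ∀ i, ∃ j, M i j = 3) {m : ℕ}
    (hm : 1 ≤ m) (k : Fin m ↪ Fin l) (hk : ∀ i j, M (k i) (k j) = cA m i j) : In h X (Set.range k) := by
  rcases Nat.lt_or_ge m 2 with h2 | h2
  · obtain rfl : m = 1 := by omega
    obtain ⟨j, hj⟩ := hb (k 0)
    have h3 : Set.range k = {k 0} := by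
      ext x
      constructor
      · rintro ⟨i, rfl⟩
        rw [Subsingleton.elim i 0]
        rfl
      · rintro rfl
        exact ⟨0, rfl⟩
    rw [h3]
    exact in_node D _ j hj
  · exact in_chain D h2 k hk

/-- **A chain of nodes.** -/
theorem many_path [Finite S] {J : Set (Fin l)} (D : ExcData r q h f J T n X) (hr : r.Prime)
    (hT : ∀ a ∈ T, ∀ b ∈ T, a * b = b * a) (hb : ∀ i, ∃ j, M i j = 3) {p : ℕ} (hp : p.Prime) (hpr : p ≠ r)
    (hq : ∀ i, p ∣ f i - 1) {m : ℕ} (k : Fin m ↪ Fin l) (hk : ∀ i j, M (k i) (k j) = cA m i j) : Many p S m := by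
  have := D.fin
  have : Fact p.Prime := ⟨hp⟩
  have : Fact r.Prime := ⟨hr⟩
  obtain ⟨Q, hQT, hQ, -, hC⟩ := exists_Q D.rgd hT hb hp (fun i => by rw [D.size]; exact hq i)
  let k' : ∀ i : Fin m, Fin ((i : ℕ) + 1) ↪ Fin l := fun i => (Fin.castLEEmb i.2).trans k
  have hk' : ∀ (i : Fin m) (a : Fin ((i : ℕ) + 1)), k' i a = k ⟨a, lt_of_lt_of_le a.2 i.2⟩ := fun _ _ => rfl
  refine many_of_chain D.rgd D.gg hpr Q hQ hQT hC (fun i => Set.range (k' i)) (fun i => ⟨_, 0, rfl⟩) (fun i => ?_) ?_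
  · refine in_path D hb (by omega) (k' i) fun a b => ?_
    rw [hk', hk', hk, cA_apply, cA_apply]
  · intro i j hij
    constructor
    · rintro _ ⟨a, rfl⟩
      refine ⟨⟨a, by have := a.2; have : (i : ℕ) < j := hij; omega⟩, ?_⟩
      rw [hk', hk']
    · intro hcon
      obtain ⟨a, ha⟩ := hcon ⟨⟨j, by omega⟩, rfl⟩
      rw [hk', hk'] at ha
      have h1 := k.injective ha
      have h2 : (a : ℕ) = j := congrArg Fin.val h1
      have h3 := a.2
      have h4 : (i : ℕ) < j := hij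
      omega

end gen

section f4

variable {r q l : ℕ} {A : Fin 4 → Fin 4 → ℤ} {h : IsCartan CoxeterMatrix.F₄ A} {f : Fin 4 → ℕ}
  {S : Type*} [Group S] {T : Subgroup S} {n : Fin 4 → S} {X : (Fin 4 → ℤ) → Subgroup S}

/-- the chain `0, 1` of `F₄` -/
def k4 : Fin 2 ↪ Fin 4 := ⟨![0, 1], by decide⟩

theorem range_k4 : Set.range k4 = {0, 1} := by
  ext x
  simp only [Set.mem_range, Set.mem_insert_iff, Set.mem_singleton_iff]
  revert x; decide

theorem hk4 : ∀ i j, m4 (k4 i) (k4 j) = ExcRows.mA 2 i j := by decide +kernel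

theorem hb4 : ∀ i, ∃ j, m4 i j = 3 := by decide +kernel

theorem path01 : PathOK CoxeterMatrix.F₄ [0, 1] [0, 1] [] 0 := by constructor <;> decide +kernel
theorem path03 : PathOK CoxeterMatrix.F₄ [0, 3] [0] [3] 0 := by constructor <;> decide +kernel
theorem path3 : PathOK CoxeterMatrix.F₄ [3] [3] [] 0 := by constructor <;> decide +kernel

/-- **Type `F₄`.** -/
theorem many_f4 [Finite S] {J : Set (Fin 4)} (D : ExcData r q h f J T n X) (hr : r.Prime)
    (hT : ∀ a ∈ T, ∀ b ∈ T, a * b = b * a) {p : ℕ} (hp : p.Prime) (hpr : p ≠ r) (hq : ∀ i, p ∣ f i - 1)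
    (hf : f 1 = f 0) (hf3 : 1 + f 0 + f 0 ^ 2 ≠ 1 + f 3) : Many p S 4 := by
  have := D.fin
  have : Fact p.Prime := ⟨hp⟩
  have : Fact r.Prime := ⟨hr⟩
  have hb : ∀ i, ∃ j, CoxeterMatrix.F₄ i j = 3 := hb4
  obtain ⟨Q, hQT, hQ, -, hC⟩ := exists_Q D.rgd hT hb hp (fun i => by rw [D.size]; exact hq i)
  have i0 : In h X {0} := in_node D 0 1 (by decide +kernel)
  have i3 : In h X {3} := in_node D 3 2 (by decide +kernel)
  have i01 : In h X {0, 1} := by rw [← range_k4]; exact in_chain D le_rfl k4 hk4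
  have i03 : In h X ({0} ∪ {3}) := In.union D i0 i3 (by
    rintro i rfl j rfl
    decide +kernel)
  have i013 : In h X ({0, 1} ∪ {3}) := In.union D i01 i3 (by
    rintro i (rfl | rfl) j rfl
    · decide +kernel
    · decide +kernel)
  have s03 : ({0} ∪ {3} : Set (Fin 4)) = {0, 3} := rfl
  have s013 : ({0, 1} ∪ {3} : Set (Fin 4)) = {0, 1, 3} := by
    ext x
    simp only [Set.mem_union, Set.mem_insert_iff, Set.mem_singleton_iff]
    tauto
  rw [s03] at i03
  rw [s013] at i013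
  have c01 : Nat.card ↥(PJ CoxeterMatrix.F₄.toCoxeterSystem h T X {0, 1}) =
      FA 2 (f 0) * 1 * Nat.card ↥(RGD.B CoxeterMatrix.F₄.toCoxeterSystem h T X) := by
    have h1 := card_step D.rgd path01 (y := f 0) (fun i hi => by rw [D.size]; revert i; simp [hf]) (card_nil D.rgd)
    have e : ({j | j ∈ ([0, 1] : List (Fin 4))} : Set (Fin 4)) = {0, 1} := by ext x; simp
    rwa [e] at h1
  have c03 : Nat.card ↥(PJ CoxeterMatrix.F₄.toCoxeterSystem h T X {0, 3}) =
      FA 1 (f 0) * (FA 1 (f 3) * 1) * Nat.card ↥(RGD.B CoxeterMatrix.F₄.toCoxeterSystem h T X) := by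
    have h0 := card_step D.rgd path3 (y := f 3) (fun i hi => by rw [D.size]; revert i; simp) (card_nil D.rgd)
    have h1 := card_step D.rgd path03 (y := f 0) (fun i hi => by rw [D.size]; revert i; simp) h0
    have e : ({j | j ∈ ([0, 3] : List (Fin 4))} : Set (Fin 4)) = {0, 3} := by ext x; simp
    rwa [e] at h1
  have hne : Nat.card ↥(PJ CoxeterMatrix.F₄.toCoxeterSystem h T X {0, 1}) ≠
      Nat.card ↥(PJ CoxeterMatrix.F₄.toCoxeterSystem h T X {0, 3}) := by
    rw [c01, c03]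
    intro e
    have h1 := Nat.eq_of_mul_eq_mul_right Nat.card_pos e
    simp only [FA, Finset.prod_range_succ, Finset.prod_range_zero, Finset.sum_range_succ,
      Finset.sum_range_zero] at h1
    apply hf3
    have h2 : (1 + f 0) * (1 + f 0 + f 0 ^ 2) = (1 + f 0) * (1 + f 3) := by
      have h3 : (1 + f 0) * (1 + f 0 + f 0 ^ 2) = 1 * (0 + f 0 ^ 0 + f 0 ^ 1) * (0 + f 0 ^ 0 + f 0 ^ 1 + f 0 ^ 2) * 1 := by
        ring
      rw [h3]
      refine Eq.trans ?_ (h1.trans ?_)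
      · ring
      · ring
    exact Nat.eq_of_mul_eq_mul_left (by omega) h2
  have n0 : ({0} : Set (Fin 4)).ncard = 1 := Set.ncard_singleton _
  have n01 : ({0, 1} : Set (Fin 4)).ncard = 2 := Set.ncard_pair (by decide)
  have n03 : ({0, 3} : Set (Fin 4)).ncard = 2 := Set.ncard_pair (by decide)
  have n013 : ({0, 1, 3} : Set (Fin 4)).ncard = 3 := by
    rw [Set.ncard_insert_of_notMem (by simp), Set.ncard_pair (by decide)]
  refine many_of_cusps D.rgd D.gg hpr Q hQ hQT hC ![{0}, {0, 1}, {0, 3}, {0, 1, 3}] (fun i => ?_) (fun i => ?_)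
    (fun i j hij => ?_)
  · fin_cases i
    · exact ⟨0, rfl⟩
    · exact ⟨0, Or.inl rfl⟩
    · exact ⟨0, Or.inl rfl⟩
    · exact ⟨0, Or.inl rfl⟩
  · fin_cases i
    · exact i0
    · exact i01
    · exact i03
    · exact i013
  · fin_cases i <;> fin_cases j
    all_goals first
      | exact absurd hij (by decide)
      | (left; exact hne)
      | (right; simp [n0, n01, n03, n013]; done)

end f4

/-! ### the split groups -/

section split

open Cfsg.Lie Cfsg.Agent.Nodes.RGDChev Cfsg.Agent.ChevalleyStructure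

theorem diag_comm' {D : ChevalleyDatum} (hD : Elts.InList D) {K : Type u} [Field K] {a b : GL D.Idx K}
    (ha : a ∈ D.diagonalSubgroup K) (hb : b ∈ D.diagonalSubgroup K) : a * b = b * a := by
  obtain ⟨χ, hχ⟩ := HMatDiagAll.mem_torus.1 (HMatDiagAll.diagonalSubgroup_le_torus hD ha)
  obtain ⟨ψ, hψ⟩ := HMatDiagAll.mem_torus.1 (HMatDiagAll.diagonalSubgroup_le_torus hD hb)
  apply Units.ext
  rw [Units.val_mul, Units.val_mul, hχ, hψ, Matrix.diagonal_mul_diagonal, Matrix.diagonal_mul_diagonal]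
  congr 1
  funext i
  exact mul_comm _ _

theorem TT_comm {D : ChevalleyDatum} (hD : Elts.InList D) {K : Type u} [Field K] :
    ∀ a ∈ TT D K, ∀ b ∈ TT D K, a * b = b * a := fun a ha b hb =>
  Subtype.ext (diag_comm' hD (Subgroup.mem_subgroupOf.1 ha) (Subgroup.mem_subgroupOf.1 hb))

/-- the chain of `E₆` -/
def p6 : Fin 5 ↪ Fin 6 := ⟨![0, 2, 3, 4, 5], by decide⟩
/-- the chain of `E₇` -/
def p7 : Fin 6 ↪ Fin 7 := ⟨![0, 2, 3, 4, 5, 6], by decide⟩
/-- the chain of `E₈` -/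
def p8 : Fin 7 ↪ Fin 8 := ⟨![0, 2, 3, 4, 5, 6, 7], by decide⟩

theorem hp6 : ∀ i j, m6 (p6 i) (p6 j) = ExcRows.mA 5 i j := by decide +kernel
theorem hp7 : ∀ i j, m7 (p7 i) (p7 j) = ExcRows.mA 6 i j := by decide +kernel
theorem hp8 : ∀ i j, m8 (p8 i) (p8 j) = ExcRows.mA 7 i j := by decide +kernel
theorem hb6 : ∀ i, ∃ j, m6 i j = 3 := by decide +kernel
theorem hb7 : ∀ i, ∃ j, m7 i j = 3 := by decide +kernel
theorem hb8 : ∀ i, ∃ j, m8 i j = 3 := by decide +kernel

variable {K : Type u} [Field K] [Fintype K] {S : Type*} [Group S] {p : ℕ} (hp : p.Prime)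
  (hq : p ∣ Fintype.card K - 1)

include hp hq

theorem exists_char_pow : ∃ (r f : ℕ), r.Prime ∧ f ≠ 0 ∧ Fintype.card K = r ^ f ∧ CharP K r ∧ p ≠ r ∧ p ∣ r ^ f - 1 := by
  obtain ⟨r, hr⟩ := CharP.exists K
  obtain ⟨f, hpr, hf⟩ := FiniteField.card K r
  refine ⟨r, f, hpr, f.ne_zero, hf, hr, ?_, by rwa [← hf]⟩
  rintro rfl
  rw [hf] at hq
  have h1 : p ∣ p ^ (f : ℕ) := dvd_pow_self p f.ne_zero
  have h2 : 1 ≤ p ^ (f : ℕ) := Nat.one_le_pow _ _ hp.pos
  have h3 : p ∣ 1 := by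
    have h5 := Nat.dvd_sub h1 hq
    rwa [Nat.sub_sub_self h2] at h5
  exact hp.one_lt.ne' (Nat.dvd_one.1 h3)

/-- **`E₆(q)`, `p ∣ q - 1`.** -/
theorem many_E6 (e : S ≃* ↥(chevE6.group K)) : Many p S 5 := by
  obtain ⟨r, f, hr, hf, hK, hch, hpr, hd⟩ := exists_char_pow hp hq
  have := finite_group (K := K) chevE6
  exact Many.of_equiv e (many_path (data_E6_3 hr hf hK) hr (TT_comm (IsType.inList hpE6)) hb6 hp hpr (fun _ => hd)
    p6 hp6)

/-- **`E₇(q)`, `p ∣ q - 1`.** -/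
theorem many_E7 (e : S ≃* ↥(chevE7.group K)) : Many p S 6 := by
  obtain ⟨r, f, hr, hf, hK, hch, hpr, hd⟩ := exists_char_pow hp hq
  have := finite_group (K := K) chevE7
  exact Many.of_equiv e (many_path (data_E7_3 hr hf hK) hr (TT_comm (IsType.inList hpE7)) hb7 hp hpr (fun _ => hd)
    p7 hp7)

/-- **`E₈(q)`, `p ∣ q - 1`.** -/
theorem many_E8 (e : S ≃* ↥(chevE8.group K)) : Many p S 7 := by
  obtain ⟨r, f, hr, hf, hK, hch, hpr, hd⟩ := exists_char_pow hp hq
  have := finite_group (K := K) chevE8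
  exact Many.of_equiv e (many_path (data_E8_3 hr hf hK) hr (TT_comm (IsType.inList hpE8)) hb8 hp hpr (fun _ => hd)
    p8 hp8)

/-- **`F₄(q)`, `p ∣ q - 1`.** -/
theorem many_F4 (e : S ≃* ↥(chevF4.group K)) : Many p S 4 := by
  obtain ⟨r, f, hr, hf, hK, hch, hpr, hd⟩ := exists_char_pow hp hq
  have := finite_group (K := K) chevF4
  refine Many.of_equiv e (many_f4 (data_F4_2 hr hf hK) hr (TT_comm (IsType.inList hpF4)) hp hpr (fun _ => hd) rfl ?_)
  have h2 := two_le hr hf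
  have h3 : 0 < (r ^ f) ^ 2 := by positivity
  omega

end split

section tw

open Cfsg.Lie Cfsg.Agent.Nodes

theorem T_comm_tw {K : Type u} [Field K] {q : ℕ} :
    ∀ a ∈ RGDTwE6.T K q, ∀ b ∈ RGDTwE6.T K q, a * b = b * a := fun a ha b hb =>
  Subtype.ext (diag_comm' (RGDChev.IsType.inList RGDTwE6.hp) (Subgroup.mem_subgroupOf.1 ha).1
    (Subgroup.mem_subgroupOf.1 hb).1)

/-- **`²E₆(q)`, `p ∣ q - 1`.** -/
theorem many_TwE6 {K : Type u} [Field K] [Fintype K] {q : ℕ} (hq : IsPrimePow q) (hK : Fintype.card K = q ^ 2)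
    {S : Type*} [Group S] {p : ℕ} (hp : p.Prime) (hpq : p ∣ q - 1) (e : S ≃* ↥(twistedE6 K q)) : Many p S 4 := by
  obtain ⟨r, f, hr, hf, hqf⟩ := (isPrimePow_nat_iff q).1 hq
  have h2q : 2 ≤ q := hq.two_le
  have hch : CharP K r := by
    obtain ⟨r', hch⟩ := CharP.exists K
    obtain ⟨g, hr', hK'⟩ := FiniteField.card K r'
    have h1 : r' = r := by
      have h2 : r' ∣ r ^ (f * 2) := by
        rw [pow_mul, hqf, ← hK, hK']
        exact dvd_pow_self _ g.ne_zero
      exact (Nat.prime_dvd_prime_iff_eq hr' hr).1 (hr'.dvd_of_dvd_pow h2)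
    rwa [h1] at hch
  have hpr : p ≠ r := by
    rintro rfl
    have h1 : p ∣ q := by rw [← hqf]; exact dvd_pow_self p hf.ne'
    have h3 : p ∣ 1 := by
      have h5 := Nat.dvd_sub h1 hpq
      rwa [Nat.sub_sub_self (by omega)] at h5
    exact hp.one_lt.ne' (Nat.dvd_one.1 h3)
  obtain ⟨φ, hφ, hqq⟩ := Cfsg.Agent.ChevalleyStructure.TwE6Basic.exists_frob hq hK
  have : Finite ↥(twistedE6 K q) := by
    have : Finite (GL chevE6.Idx K) := by
      have : Finite (Matrix chevE6.Idx chevE6.Idx K) := inferInstance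
      infer_instance
    infer_instance
  have D := data_TwE6_2 hr hf.ne' hqf.symm hφ hqq hK
  have hd2 : p ∣ q ^ 2 - 1 := by
    have h1 : q ^ 2 - 1 = (q - 1) * (q + 1) := by
      obtain ⟨x, rfl⟩ := Nat.exists_eq_add_of_le h2q
      have : (2 + x) ^ 2 = (2 + x - 1) * (2 + x + 1) + 1 := by
        have e : 2 + x - 1 = x + 1 := by omega
        rw [e]; ring
      omega
    rw [h1]
    exact Dvd.dvd.mul_right hpq _
  refine Many.of_equiv e (many_f4 D hr T_comm_tw hp hpr (fun i => ?_) rfl ?_)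
  · unfold fE
    split_ifs
    · exact hpq
    · exact hd2
  · change 1 + q + q ^ 2 ≠ 1 + q ^ 2
    omega

end tw

end Cfsg.Agent.H64.Dl
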