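import Cfsg.Agent.H967.Sph.Main
import Cfsg.Agent.H986.EqD.TauW

/-!
# The spherical machine with computable polynomials (helper64, for S4769)

Polynomials in `x` are lists of integers (`ev`), functions of the state are linear forms in the values `b c` on the classes
with polynomial coefficients (`lev`).
* `exists_char_mat` : `H967.Sph.exists_char` for parameters `q i = x ^ e i`, the matrix of the operator on the classes
  is checked by computation (`Chk`).
-/

set_option autoImplicit false

namespace Cfsg.Agent.H64.Dl.Sph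

open Cfsg.Agent.H967.Sph

/-! ### polynomials -/

/-- the value of a polynomial -/
def ev (x : ℚ) : List ℤ → ℚ
  | [] => 0
  | a :: p => (a : ℚ) + x * ev x p

/-- sum -/
def pAdd : List ℤ → List ℤ → List ℤ
  | [], q => q
  | a :: p, [] => a :: p
  | a :: p, b :: q => (a + b) :: pAdd p q

/-- product with `x ^ e` -/
def pShift : ℕ → List ℤ → List ℤ
  | 0, p => p
  | e + 1, p => 0 :: pShift e p

/-- negative -/
def pNeg : List ℤ → List ℤ
  | [] => []
  | a :: p => (-a) :: pNeg p

/-- all coefficients are zero -/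
def pZero : List ℤ → Bool
  | [] => true
  | a :: p => decide (a = 0) && pZero p

variable (x : ℚ)

@[simp] theorem ev_nil : ev x [] = 0 := rfl

@[simp] theorem ev_cons (a : ℤ) (p : List ℤ) : ev x (a :: p) = (a : ℚ) + x * ev x p := rfl

theorem ev_pAdd : ∀ p q : List ℤ, ev x (pAdd p q) = ev x p + ev x q
  | [], q => by rw [pAdd, ev_nil, zero_add]
  | a :: p, [] => by rw [pAdd, ev_nil, add_zero]
  | a :: p, b :: q => by
    rw [pAdd, ev_cons, ev_cons, ev_cons, ev_pAdd p q]
    push_cast
    ring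

theorem ev_pShift : ∀ (e : ℕ) (p : List ℤ), ev x (pShift e p) = x ^ e * ev x p
  | 0, p => by rw [pShift, pow_zero, one_mul]
  | e + 1, p => by
    rw [pShift, ev_cons, ev_pShift e p, pow_succ]
    push_cast
    ring

theorem ev_pNeg : ∀ p : List ℤ, ev x (pNeg p) = -ev x p
  | [] => by rw [pNeg, ev_nil, neg_zero]
  | a :: p => by
    rw [pNeg, ev_cons, ev_cons, ev_pNeg p]
    push_cast
    ring

theorem ev_of_pZero : ∀ p : List ℤ, pZero p = true → ev x p = 0
  | [], _ => rfl
  | a :: p, h => by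
    rw [pZero, Bool.and_eq_true, decide_eq_true_eq] at h
    rw [ev_cons, h.1, ev_of_pZero p h.2, Int.cast_zero, mul_zero, add_zero]

/-- equality of the polynomials -/
def pEq (p q : List ℤ) : Bool := pZero (pAdd p (pNeg q))

theorem ev_of_pEq {p q : List ℤ} (h : pEq p q = true) : ev x p = ev x q := by
  have h1 := ev_of_pZero x _ h
  rw [ev_pAdd, ev_pNeg] at h1
  linarith

/-! ### linear forms -/

variable {I : Type*} [DecidableEq I] {A : I → I → ℤ} {j : I} {N m : ℕ} (t : Tab A j N m)

/-- the value of a linear form -/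
def lev (b : Fin m → ℚ) (L : Fin N → Fin m → List ℤ) (s : Fin N) : ℚ := ∑ c, ev x (L s c) * b c

/-- the operator `T_i` on linear forms -/
def tauP (e : I → ℕ) (i : I) (L : Fin N → Fin m → List ℤ) (s : Fin N) (c : Fin m) : List ℤ :=
  if t.vec s i < 0 then pAdd (L (t.st i s) c) (pAdd (pShift (e i) (L s c)) (pNeg (L s c)))
  else pShift (e i) (L (t.st i s) c)

/-- the operator of a word on linear forms -/
def tauWP (e : I → ℕ) : List I → (Fin N → Fin m → List ℤ) → (Fin N → Fin m → List ℤ)
  | [], L => L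
  | i :: w, L => tauP t e i (tauWP e w L)

/-- the operator of a list of words on linear forms -/
def tauDP (e : I → ℕ) : List (List I) → (Fin N → Fin m → List ℤ) → Fin N → Fin m → List ℤ
  | [], _, _, _ => []
  | w :: D, L, s, c => pAdd (tauWP t e w L s c) (tauDP e D L s c)

/-- the values on the classes -/
def L0 (s : Fin N) (c : Fin m) : List ℤ := if t.cls s = c then [1] else []

variable {t} {e : I → ℕ} {q : I → ℕ}

theorem lev_L0 (b : Fin m → ℚ) : lev x b (L0 t) = fun s => b (t.cls s) := by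
  funext s
  unfold lev L0
  rw [Finset.sum_eq_single (t.cls s)]
  · rw [if_pos rfl]
    simp
  · intro c _ hc
    rw [if_neg (Ne.symm hc), ev_nil, zero_mul]
  · intro h
    exact absurd (Finset.mem_univ _) h

theorem tau_lev (hq : ∀ i, (q i : ℚ) = x ^ e i) (i : I) (b : Fin m → ℚ) (L : Fin N → Fin m → List ℤ) :
    t.tau q i (lev x b L) = lev x b (tauP t e i L) := by
  funext s
  unfold Tab.tau lev tauP
  split_ifs with h
  · rw [Finset.mul_sum, ← Finset.sum_add_distrib]
    refine Finset.sum_congr rfl fun c _ => ?_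
    rw [ev_pAdd, ev_pAdd, ev_pShift, ev_pNeg, hq]
    ring
  · rw [Finset.mul_sum]
    refine Finset.sum_congr rfl fun c _ => ?_
    rw [ev_pShift, hq]
    ring

theorem tauW_lev (hq : ∀ i, (q i : ℚ) = x ^ e i) (b : Fin m → ℚ) (L : Fin N → Fin m → List ℤ) :
    ∀ w : List I, t.tauW q w (lev x b L) = lev x b (tauWP t e w L)
  | [] => rfl
  | i :: w => by
    rw [Tab.tauW, tauWP, tauW_lev hq b L w, tau_lev x hq]

theorem tauD_lev (hq : ∀ i, (q i : ℚ) = x ^ e i) (b : Fin m → ℚ) (L : Fin N → Fin m → List ℤ) (s : Fin N) :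
    ∀ D : List (List I), t.tauD q D (lev x b L) s = lev x b (tauDP t e D L) s
  | [] => by
    unfold Tab.tauD lev
    simp [tauDP]
  | w :: D => by
    have h1 := tauD_lev hq b L s D
    unfold Tab.tauD at h1 ⊢
    rw [List.map_cons, List.sum_cons, h1, tauW_lev x hq]
    unfold lev
    rw [← Finset.sum_add_distrib]
    refine Finset.sum_congr rfl fun c _ => ?_
    rw [tauDP, ev_pAdd]
    ring

variable (t e)

/-- `Mat` is the matrix of the operator on the classes -/
def Chk (D : List (List I)) (Mat : Fin m → Fin m → List ℤ) : Prop :=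
  ∀ (s : Fin N) (c : Fin m), pEq (tauDP t e D (L0 t) s c) (Mat (t.cls s) c) = true

instance (D : List (List I)) (Mat : Fin m → Fin m → List ℤ) : Decidable (Chk t e D Mat) := by
  unfold Chk; infer_instance

/-- the sum of the weights of a class -/
def ChkK (wl : Fin N → ℕ) (K : Fin m → List ℤ) : Prop :=
  ∀ c : Fin m, pEq ((List.finRange N).foldr (fun s p => if t.cls s = c then pAdd (pShift (wl s) [1]) p else p) []) (K c)
    = true

instance (wl : Fin N → ℕ) (K : Fin m → List ℤ) : Decidable (ChkK t wl K) := by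
  unfold ChkK; infer_instance

variable {t e}

theorem Chk.spec {D : List (List I)} {Mat : Fin m → Fin m → List ℤ} (h : Chk t e D Mat)
    (hq : ∀ i, (q i : ℚ) = x ^ e i) (b : Fin m → ℚ) (s : Fin N) :
    t.tauD q D (fun u => b (t.cls u)) s = ∑ c, ev x (Mat (t.cls s) c) * b c := by
  rw [← lev_L0 x b, tauD_lev x hq]
  unfold lev
  exact Finset.sum_congr rfl fun c _ => by rw [ev_of_pEq x (h s c)]

theorem ChkK.spec {wl : Fin N → ℕ} {K : Fin m → List ℤ} (h : ChkK t wl K) (c : Fin m) :
    ∑ s ∈ Finset.univ.filter (fun s => t.cls s = c), x ^ wl s = ev x (K c) := by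
  rw [← ev_of_pEq x (h c)]
  have key : ∀ l : List (Fin N), ev x (l.foldr (fun s p => if t.cls s = c then pAdd (pShift (wl s) [1]) p else p) []) =
      (l.map fun s => if t.cls s = c then x ^ wl s else 0).sum := by
    intro l
    induction l with
    | nil => rfl
    | cons s l ih =>
      rw [List.foldr_cons, List.map_cons, List.sum_cons]
      split_ifs with h1
      · rw [ev_pAdd, ev_pShift, ih]
        simp
      · rw [ih, zero_add]
  rw [key, Finset.sum_filter, ← List.sum_ofFn, List.ofFn_eq_map]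

open CoxeterSystem Cfsg.Agent.ChevalleyStructure.CoxeterGeom Cfsg.Agent.Tits.Roots Cfsg.Agent.Tits.Core
  Cfsg.Agent.Nodes.Reps Cfsg.Agent.Nodes.BNOf Cfsg.Agent.Nodes.Bruhat Cfsg.Agent.Nodes.LeviDec

universe u

/-- **The spherical machine, the operator given by its matrix on the classes.** -/
theorem exists_char_mat {I W : Type*} {Y : Type u} [Fintype I] [DecidableEq I] [Group W] [Finite W] [Group Y] [Finite Y]
    {M : CoxeterMatrix I} {cs : CoxeterSystem M W} {A : I → I → ℤ} {h : IsCartan M A} {p : ℕ} {T : Subgroup Y}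
    {n : I → Y} {X : (I → ℤ) → Subgroup Y} (R : RGD cs h p T n X) (hG : GG cs h T X = ⊤)
    {j : I} {N m : ℕ} (t : Tab A j N m) (x : ℕ) (e : I → ℕ) (hq : ∀ i, Nat.card (X (sr i)) = x ^ e i)
    (D : List (List I)) (Mat : Fin m → Fin m → List ℤ) (hM : Chk t e D Mat) (hcr : ∀ c, t.cls (t.crep c) = c)
    (wl : Fin N → ℕ) (hw : wl t.o = 0) (hws : ∀ i s, 0 < t.vec s i → wl (t.st i s) = e i + wl s)
    (K : Fin m → List ℤ) (hK : ChkK t wl K)
    (θ : ℚ) (a : Fin m → ℚ) (ha : a (t.cls t.o) = 1) (he : ∀ c, ∑ c', ev x (Mat c c') * a c' = θ * a c)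
    (hu : ∀ b : Fin m → ℚ, (∀ c, ∑ c', ev x (Mat c c') * b c' = θ * b c) → ∀ c, b c = b (t.cls t.o) * a c)
    (d : ℕ) (hd : (d : ℚ) * ∑ c, ev x (K c) * a c ^ 2 = ∑ c, ev x (K c)) :
    ∃ χ : Y → ℂ, Cfsg.IsIrrCharacter Y χ ∧ (∀ g, ∃ r : ℚ, χ g = r) ∧ χ 1 = d := by
  have hq' : ∀ i, ((x ^ e i : ℕ) : ℚ) = (x : ℚ) ^ e i := fun i => by push_cast; rfl
  have hsum : ∀ f : Fin m → ℚ, ∑ s, ((x ^ wl s : ℕ) : ℚ) * f (t.cls s) = ∑ c, ev x (K c) * f c := by
    intro f
    rw [← Finset.sum_fiberwise (s := Finset.univ) (g := fun s => t.cls s)]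
    refine Finset.sum_congr rfl fun c _ => ?_
    rw [← ChkK.spec (x : ℚ) hK c, Finset.sum_mul]
    refine Finset.sum_congr rfl fun s hs => ?_
    rw [(Finset.mem_filter.1 hs).2]
    push_cast
    rfl
  refine exists_char R hG t (fun i => x ^ e i) hq D θ a ha (fun s => ?_) (fun b hb c => ?_) (fun s => x ^ wl s) ?_ ?_ d ?_
  · rw [hM.spec (x : ℚ) hq', he]
  · refine hu b (fun c => ?_) c
    have h1 := hb (t.crep c)
    rw [hM.spec (x : ℚ) hq', hcr] at h1
    exact h1
  · rw [hw, pow_zero]
  · intro i s h1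
    rw [hws i s h1, pow_add]
  · rw [hsum (fun c => a c ^ 2), hd]
    have h1 := hsum (fun _ => 1)
    simp only [mul_one] at h1
    rw [h1]

end Cfsg.Agent.H64.Dl.Sph
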