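import Cfsg.Agent.H64.Dl.SphP
import Cfsg.Agent.Nodes.RGDTwE6

/-!
# The table of the spherical machine for `²E₆(q)`, node `0` (helper64, for S4769)
-/

set_option autoImplicit false

namespace Cfsg.Agent.H64.Dl.Sph.TwE

open Cfsg.Agent.H967.Sph Cfsg.Agent.Nodes

def vecL : List (List ℤ) := [[1, 0, 0, 0], [-1, 1, 0, 0], [0, -1, 1, 0], [0, 1, -1, 1], [1, -1, 0, 1], [0, 1, 0, -1], [-1, 0, 0, 1], [1, -1, 1, -1], [-1, 0, 1, -1], [1, 1, -1, 0], [-1, 2, -1, 0], [2, -1, 0, 0], [1, -2, 1, 0], [-2, 1, 0, 0], [-1, -1, 1, 0], [1, 0, -1, 1], [-1, 1, -1, 1], [1, 0, 0, -1], [0, -1, 0, 1], [-1, 1, 0, -1], [0, -1, 1, -1], [0, 1, -1, 0], [1, -1, 0, 0], [-1, 0, 0, 0]]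

def stL : List (List ℕ) := [[1, 0, 2, 3, 6, 5, 4, 8, 7, 10, 9, 13, 14, 11, 12, 16, 15, 19, 18, 17, 20, 21, 23, 22], [0, 2, 1, 4, 3, 7, 6, 5, 8, 11, 12, 9, 10, 14, 13, 15, 18, 17, 16, 20, 19, 22, 21, 23], [0, 1, 3, 2, 4, 5, 6, 9, 10, 7, 8, 11, 15, 13, 16, 12, 14, 17, 18, 19, 21, 20, 22, 23], [0, 1, 2, 5, 7, 3, 8, 4, 6, 9, 10, 11, 12, 13, 14, 17, 19, 15, 20, 16, 18, 21, 22, 23]]

def clsL : List ℕ := [0, 1, 1, 1, 1, 1, 2, 1, 2, 1, 2, 1, 2, 3, 3, 2, 3, 2, 3, 3, 3, 3, 3, 4]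

def crepL : List ℕ := [0, 1, 6, 13, 23]

def pathL : List (List (Fin 4)) := [[], [0], [0, 1], [0, 1, 2], [0, 1, 2, 1], [0, 1, 2, 3], [0, 1, 2, 1, 0], [0, 1, 2, 1, 3], [0, 1, 2, 1, 0, 3], [0, 1, 2, 1, 3, 2], [0, 1, 2, 1, 0, 3, 2], [0, 1, 2, 1, 3, 2, 1], [0, 1, 2, 1, 0, 3, 2, 1], [0, 1, 2, 1, 3, 2, 1, 0], [0, 1, 2, 1, 0, 3, 2, 1, 0], [0, 1, 2, 1, 0, 3, 2, 1, 2], [0, 1, 2, 1, 0, 3, 2, 1, 0, 2], [0, 1, 2, 1, 0, 3, 2, 1, 2, 3], [0, 1, 2, 1, 0, 3, 2, 1, 0, 2, 1], [0, 1, 2, 1, 0, 3, 2, 1, 0, 2, 3], [0, 1, 2, 1, 0, 3, 2, 1, 0, 2, 1, 3], [0, 1, 2, 1, 0, 3, 2, 1, 0, 2, 1, 3, 2], [0, 1, 2, 1, 0, 3, 2, 1, 0, 2, 1, 3, 2, 1], [0, 1, 2, 1, 0, 3, 2, 1, 0, 2, 1, 3, 2, 1, 0]]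

def cpathL : List (List (Fin 4)) := [[], [], [1], [1, 2], [1, 2, 1], [1, 2, 3], [], [1, 2, 1, 3], [3], [1, 2, 1, 3, 2], [3, 2], [1, 2, 1, 3, 2, 1], [3, 2, 1], [], [1], [3, 2, 1, 2], [1, 2], [3, 2, 1, 2, 3], [1, 2, 1], [1, 2, 3], [1, 2, 1, 3], [1, 2, 1, 3, 2], [1, 2, 1, 3, 2, 1], []]

def wlL : List ℕ := [0, 1, 2, 4, 5, 6, 6, 7, 8, 9, 10, 10, 11, 11, 12, 13, 14, 15, 15, 16, 17, 19, 20, 21]

def DL : List (List (Fin 4)) := [[0], [1, 0], [2, 1, 0], [3, 2, 1, 0], [1, 2, 1, 0], [3, 1, 2, 1, 0], [2, 3, 1, 2, 1, 0], [1, 2, 3, 1, 2, 1, 0]]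

def matL : List (List (List ℤ)) := [[[], [0, 1, 1, 0, 1, 1, 1, 1, 0, 1, 1], [], [], []], [[1], [-1, 1, 1, 0, 1, 0, 1], [0, 0, 0, 0, 0, 1, 0, 1, 0, 1], [0, 0, 0, 0, 0, 0, 0, 0, 0, 0, 1], []], [[], [1, 1, 0, 1, 1], [-1, 0, 1, -1, 0, 1], [0, 0, 0, 0, 0, 0, 1, 1, 0, 1, 1], []], [[], [1], [0, 1, 0, 1, 0, 1], [-1, 0, 1, -1, 1, 0, 1, 1, 0, 1], [0, 0, 0, 0, 0, 0, 0, 0, 0, 0, 1]], [[], [], [], [1, 1, 0, 1, 1, 1, 1, 0, 1, 1], [-1, 0, 1, -1, 0, 0, 0, 1, -1, 0, 1]]]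

def kL : List (List ℤ) := [[1], [0, 1, 1, 0, 1, 1, 1, 1, 0, 1, 1], [0, 0, 0, 0, 0, 0, 1, 0, 1, 0, 1, 1, 0, 1, 0, 1], [0, 0, 0, 0, 0, 0, 0, 0, 0, 0, 0, 1, 1, 0, 1, 1, 1, 1, 0, 1, 1], [0, 0, 0, 0, 0, 0, 0, 0, 0, 0, 0, 0, 0, 0, 0, 0, 0, 0, 0, 0, 0, 1]]


set_option maxRecDepth 4000 in
/-- the table -/
def tab : Tab RGDTwE6.A 0 24 5 where
  vec s i := (vecL.getD s []).getD i 0
  st i s := Fin.ofNat 24 ((stL.getD i []).getD s 0)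
  cls s := Fin.ofNat 5 (clsL.getD s 0)
  o := 0
  vec_o := by decide +kernel
  vec_inj := by decide +kernel
  vec_st := by decide +kernel
  path s := pathL.getD s []
  path_spec := by decide +kernel
  cls_st := by decide +kernel
  crep c := Fin.ofNat 24 (crepL.getD c 0)
  cpath s := cpathL.getD s []
  cpath_ne := by decide +kernel
  cpath_spec := by decide +kernel

/-- the exponents of the parameters -/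
def e : Fin 4 → ℕ := ![1, 1, 2, 2]

/-- the exponents of the weights -/
def wl (s : Fin 24) : ℕ := wlL.getD s 0

/-- the matrix of the operator -/
def mat (c c' : Fin 5) : List ℤ := (matL.getD c []).getD c' []

/-- the sizes of the classes -/
def kk (c : Fin 5) : List ℤ := kL.getD c []

theorem chk : Chk tab e DL mat := by decide +kernel

theorem chkK : ChkK tab wl kk := by decide +kernel

theorem hcr : ∀ c, tab.cls (tab.crep c) = c := by decide +kernel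

theorem hws : ∀ i s, 0 < tab.vec s i → wl (tab.st i s) = e i + wl s := by decide +kernel

end Cfsg.Agent.H64.Dl.Sph.TwE
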