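import Cfsg.Agent.H622.Levi.NonSwap
import Cfsg.Agent.H40.GGRgd

/-!
# Torus elements of root group data from the subgroups of type `A_2` (helper64, for S4769)

* `mu_mem` : uniqueness of the `μ`-elements;
* `Co.d0_mem`, `Co.d1_mem` : the images of the diagonal matrices lie in the torus;
* `exists_Q` : if all nodes have a simply joined neighbour, `T` is commutative and `p` divides all `q_i - 1` then some
  `p`-subgroup `Q` of `T` has no fixed points on `U`.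
-/

set_option autoImplicit false
set_option linter.unusedSectionVars false

namespace Cfsg.Agent.H64.Dl

open CoxeterSystem Cfsg.Agent.ChevalleyStructure.CoxeterGeom Cfsg.Agent.Tits.Roots Cfsg.Agent.Tits.Core
  Cfsg.Agent.Tits.RootComb Cfsg.Agent.Nodes.Comb Cfsg.Agent.Nodes.Reps Cfsg.Agent.Nodes.BNOf
  Cfsg.Agent.Nodes.StabComb Cfsg.Agent.Nodes.Bruhat Cfsg.Agent.Nodes.OppDec
open Cfsg.Agent.H622.Levi
open Cfsg.Agent.LieRecognition.BNCox (cA)
open Matrix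

variable {I W Y : Type*} [Fintype I] [DecidableEq I] [Group W] [Group Y] {M : CoxeterMatrix I}
  {cs : CoxeterSystem M W} {A : I → I → ℤ} {h : IsCartan M A} {r : ℕ} {T : Subgroup Y} {n : I → Y}
  {X : (I → ℤ) → Subgroup Y}

theorem rep_sr_self (i : I) : rep cs h (cs.simple i) (sr i) = -sr i := by
  rw [rep_simple]
  exact refl_single_self h i 1

section mu

variable [Finite W] (R : RGD cs h r T n X)
include R

theorem cj_n (i : I) : cj (n i) (X (sr i)) = X (-sr i) := by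
  rw [R.conj i _ (isRoot_sr cs h i), rep_sr_self]

theorem cj_n' (i : I) : cj (n i) (X (-sr i)) = X (sr i) := by
  rw [R.conj i _ (isRoot_sr cs h i).neg, map_neg, rep_sr_self, neg_neg]

theorem X_ne (i : I) : X (sr i) ≠ X (-sr i) := by
  intro e
  have h1 := X_inf_X R (isRoot_sr cs h i) (isRoot_sr cs h i).neg (by
    intro h2
    have h3 := congrFun h2 i
    have h4 : (sr i : I → ℤ) i = 1 := by unfold sr; simp
    rw [Pi.neg_apply, h4] at h3
    omega)
  rw [← e, inf_idem] at h1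
  exact X_ne_bot R (isRoot_sr cs h i) h1

theorem eq_one_of_cj {i : I} {d : Y} (hd : d ∈ X (-sr i)) (h1 : cj d (X (sr i)) = X (sr i)) : d = 1 := by
  by_contra hne
  obtain ⟨a, ha, t, ht, b, hb, e⟩ := R.rk1 i d hd hne
  rw [e, cj_mul, cj_mul, cj_mul, cj_eq_of_mem hb, cj_n R, R.tor _ (isRoot_sr cs h i).neg t ht] at h1
  have h2 : cj a (X (-sr i)) = cj a (X (sr i)) := by rw [h1, cj_eq_of_mem ha]
  have h3 := congrArg (cj a⁻¹) h2
  rw [← cj_mul, ← cj_mul, inv_mul_cancel, cj_one, cj_one] at h3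
  exact X_ne R i h3.symm

/-- **Uniqueness of the `μ`-elements.** -/
theorem mu_mem {i : I} {x u x' : Y} (hx : x ∈ X (sr i)) (hu : u ∈ X (-sr i)) (hu1 : u ≠ 1) (hx' : x' ∈ X (sr i))
    (h1 : cj (x * u * x') (X (sr i)) = X (-sr i)) (h2 : cj (x * u * x') (X (-sr i)) = X (sr i)) :
    ∃ t ∈ T, x * u * x' = t * n i := by
  obtain ⟨a, ha, t, ht, b, hb, e⟩ := R.rk1 i u hu hu1
  have m1 : cj (t * n i) (X (sr i)) = X (-sr i) := by
    rw [cj_mul, cj_n R, R.tor _ (isRoot_sr cs h i).neg t ht]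
  have m2 : cj (t * n i) (X (-sr i)) = X (sr i) := by
    rw [cj_mul, cj_n' R, R.tor _ (isRoot_sr cs h i) t ht]
  have inv_of : ∀ {g : Y} {P Q : Subgroup Y}, cj g P = Q → cj g⁻¹ Q = P := by
    intro g P Q hg
    rw [← hg, ← cj_mul, inv_mul_cancel, cj_one]
  set m := t * n i with hm
  have hd : m⁻¹ * (x * a) * m ∈ X (-sr i) := by
    have h3 : x * a ∈ X (sr i) := mul_mem hx ha
    rw [← m2, mem_cj] at h3
    exact h3
  have key : m⁻¹ * (x * u * x') = (m⁻¹ * (x * a) * m) * (b * x') := by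
    rw [e, hm]; group
  have hc : b * x' ∈ X (sr i) := mul_mem hb hx'
  have hd1 : m⁻¹ * (x * a) * m = 1 := by
    apply eq_one_of_cj R hd
    have h3 : m⁻¹ * (x * a) * m = m⁻¹ * (x * u * x') * (b * x')⁻¹ := by rw [key]; group
    rw [h3, cj_mul, cj_eq_of_mem (inv_mem hc), cj_mul, h1, inv_of m1]
  rw [hd1, one_mul] at key
  have hc1 : n i * (b * x') * (n i)⁻¹ = 1 := by
    apply eq_one_of_cj R
    · rw [← cj_n R]
      exact conj_mem_cj.2 hc
    · rw [cj_mul, cj_mul, inv_of (cj_n' R i), ← key, cj_mul, h2, inv_of m2, cj_n' R]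
  have hc2 : b * x' = 1 := by
    have : b * x' = (n i)⁻¹ * (n i * (b * x') * (n i)⁻¹) * n i := by group
    rw [this, hc1]; group
  rw [hc2] at key
  exact ⟨t, ht, (inv_mul_eq_one.1 key).symm⟩

end mu

section sl3

open Cfsg.Agent.TitsThree.KSideA (tv tv_of_ne tv_add tv_zero tv_neg tv_comm)

variable {F : Type} [Field F]

/-- `diag (s, s⁻¹, 1)` -/
def d0 (s : F) (hs : s ≠ 0) : SpecialLinearGroup (Fin 3) F :=
  ⟨!![s, 0, 0; 0, s⁻¹, 0; 0, 0, 1], by rw [Matrix.det_fin_three]; simp [hs]⟩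

/-- `diag (1, s, s⁻¹)` -/
def d1 (s : F) (hs : s ≠ 0) : SpecialLinearGroup (Fin 3) F :=
  ⟨!![1, 0, 0; 0, s, 0; 0, 0, s⁻¹], by rw [Matrix.det_fin_three]; simp [hs]⟩

/-- the monomial element of the first node -/
noncomputable def w0 (s : F) : SpecialLinearGroup (Fin 3) F := tv 0 1 s * tv 1 0 (-s⁻¹) * tv 0 1 s

/-- the monomial element of the second node -/
noncomputable def w1 (s : F) : SpecialLinearGroup (Fin 3) F := tv 1 2 s * tv 2 1 (-s⁻¹) * tv 1 2 s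

theorem val_w0 {s : F} (hs : s ≠ 0) : (w0 s).1 = !![0, s, 0; -s⁻¹, 0, 0; 0, 0, 1] := by
  change (tv 0 1 s : SpecialLinearGroup (Fin 3) F).1 * (tv 1 0 (-s⁻¹) : SpecialLinearGroup (Fin 3) F).1 *
    (tv 0 1 s : SpecialLinearGroup (Fin 3) F).1 = _
  rw [val_tv (by decide), val_tv (by decide)]
  ext i j
  fin_cases i <;> fin_cases j <;> simp [Matrix.mul_apply, Fin.sum_univ_three, Matrix.single_apply, Matrix.one_apply, hs]

theorem val_w1 {s : F} (hs : s ≠ 0) : (w1 s).1 = !![1, 0, 0; 0, 0, s; 0, -s⁻¹, 0] := by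
  change (tv 1 2 s : SpecialLinearGroup (Fin 3) F).1 * (tv 2 1 (-s⁻¹) : SpecialLinearGroup (Fin 3) F).1 *
    (tv 1 2 s : SpecialLinearGroup (Fin 3) F).1 = _
  rw [val_tv (by decide), val_tv (by decide)]
  ext i j
  fin_cases i <;> fin_cases j <;> simp [Matrix.mul_apply, Fin.sum_univ_three, Matrix.single_apply, Matrix.one_apply, hs]

theorem w0_eq {s : F} (hs : s ≠ 0) : w0 s = d0 s hs * w0 1 := by
  apply Subtype.ext
  change (w0 s).1 = !![s, 0, 0; 0, s⁻¹, 0; 0, 0, 1] * (w0 1).1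
  rw [val_w0 hs, val_w0 one_ne_zero]
  ext i j
  fin_cases i <;> fin_cases j <;> simp [Matrix.mul_apply, Fin.sum_univ_three]

theorem w1_eq {s : F} (hs : s ≠ 0) : w1 s = d1 s hs * w1 1 := by
  apply Subtype.ext
  change (w1 s).1 = !![1, 0, 0; 0, s, 0; 0, 0, s⁻¹] * (w1 1).1
  rw [val_w1 hs, val_w1 one_ne_zero]
  ext i j
  fin_cases i <;> fin_cases j <;> simp [Matrix.mul_apply, Fin.sum_univ_three]

theorem w0_a {s : F} (hs : s ≠ 0) (t : F) : w0 s * tv 0 1 t = tv 1 0 (-(t / s ^ 2)) * w0 s := by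
  apply Subtype.ext
  change (w0 s).1 * (tv 0 1 t : SpecialLinearGroup (Fin 3) F).1 = (tv 1 0 (-(t / s ^ 2)) : SpecialLinearGroup (Fin 3) F).1 * (w0 s).1
  rw [val_w0 hs, val_tv (by decide), val_tv (by decide)]
  ext i j
  fin_cases i <;> fin_cases j <;> simp [Matrix.mul_apply, Fin.sum_univ_three, Matrix.single_apply, Matrix.one_apply] <;>
    field_simp

theorem w0_b {s : F} (hs : s ≠ 0) (t : F) : w0 s * tv 1 0 t = tv 0 1 (-(t * s ^ 2)) * w0 s := by
  apply Subtype.ext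
  change (w0 s).1 * (tv 1 0 t : SpecialLinearGroup (Fin 3) F).1 = (tv 0 1 (-(t * s ^ 2)) : SpecialLinearGroup (Fin 3) F).1 * (w0 s).1
  rw [val_w0 hs, val_tv (by decide), val_tv (by decide)]
  ext i j
  fin_cases i <;> fin_cases j <;> simp [Matrix.mul_apply, Fin.sum_univ_three, Matrix.single_apply, Matrix.one_apply] <;>
    field_simp

theorem w1_a {s : F} (hs : s ≠ 0) (t : F) : w1 s * tv 1 2 t = tv 2 1 (-(t / s ^ 2)) * w1 s := by
  apply Subtype.ext
  change (w1 s).1 * (tv 1 2 t : SpecialLinearGroup (Fin 3) F).1 = (tv 2 1 (-(t / s ^ 2)) : SpecialLinearGroup (Fin 3) F).1 * (w1 s).1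
  rw [val_w1 hs, val_tv (by decide), val_tv (by decide)]
  ext i j
  fin_cases i <;> fin_cases j <;> simp [Matrix.mul_apply, Fin.sum_univ_three, Matrix.single_apply, Matrix.one_apply] <;>
    field_simp

theorem w1_b {s : F} (hs : s ≠ 0) (t : F) : w1 s * tv 2 1 t = tv 1 2 (-(t * s ^ 2)) * w1 s := by
  apply Subtype.ext
  change (w1 s).1 * (tv 2 1 t : SpecialLinearGroup (Fin 3) F).1 = (tv 1 2 (-(t * s ^ 2)) : SpecialLinearGroup (Fin 3) F).1 * (w1 s).1
  rw [val_w1 hs, val_tv (by decide), val_tv (by decide)]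
  ext i j
  fin_cases i <;> fin_cases j <;> simp [Matrix.mul_apply, Fin.sum_univ_three, Matrix.single_apply, Matrix.one_apply] <;>
    field_simp

theorem d0_tv {s : F} (hs : s ≠ 0) (t : F) : d0 s hs * tv 0 1 t = tv 0 1 (s ^ 2 * t) * d0 s hs := by
  apply Subtype.ext
  change !![s, 0, 0; 0, s⁻¹, 0; 0, 0, 1] * (tv 0 1 t : SpecialLinearGroup (Fin 3) F).1 =
    (tv 0 1 (s ^ 2 * t) : SpecialLinearGroup (Fin 3) F).1 * !![s, 0, 0; 0, s⁻¹, 0; 0, 0, 1]
  rw [val_tv (by decide), val_tv (by decide)]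
  ext i j
  fin_cases i <;> fin_cases j <;> simp [Matrix.mul_apply, Fin.sum_univ_three, Matrix.single_apply, Matrix.one_apply] <;>
    field_simp

theorem d1_tv (t : F) : d1 (-1 : F) (neg_ne_zero.2 one_ne_zero) * tv 0 1 t =
    tv 0 1 (-t) * d1 (-1 : F) (neg_ne_zero.2 one_ne_zero) := by
  apply Subtype.ext
  change !![1, 0, 0; 0, (-1 : F), 0; 0, 0, (-1 : F)⁻¹] * (tv 0 1 t : SpecialLinearGroup (Fin 3) F).1 =
    (tv 0 1 (-t) : SpecialLinearGroup (Fin 3) F).1 * !![1, 0, 0; 0, (-1 : F), 0; 0, 0, (-1 : F)⁻¹]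
  rw [val_tv (by decide), val_tv (by decide)]
  ext i j
  fin_cases i <;> fin_cases j <;> simp [Matrix.mul_apply, Fin.sum_univ_three, Matrix.single_apply, Matrix.one_apply]

theorem d0_mul {s t : F} (hs : s ≠ 0) (ht : t ≠ 0) : d0 s hs * d0 t ht = d0 (s * t) (mul_ne_zero hs ht) := by
  apply Subtype.ext
  change !![s, 0, 0; 0, s⁻¹, 0; 0, 0, 1] * !![t, 0, 0; 0, t⁻¹, 0; 0, 0, 1] = !![s * t, 0, 0; 0, (s * t)⁻¹, 0; 0, 0, 1]
  ext i j
  fin_cases i <;> fin_cases j <;> simp [Matrix.mul_apply, Fin.sum_univ_three, mul_comm]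

theorem d0_pow {s : F} (hs : s ≠ 0) (m : ℕ) : d0 s hs ^ m = d0 (s ^ m) (pow_ne_zero m hs) := by
  induction m with
  | zero =>
    rw [pow_zero]
    apply Subtype.ext
    change (1 : Matrix (Fin 3) (Fin 3) F) = !![s ^ 0, 0, 0; 0, (s ^ 0)⁻¹, 0; 0, 0, 1]
    ext i j
    fin_cases i <;> fin_cases j <;> simp
  | succ m ih =>
    rw [pow_succ, ih, d0_mul]
    congr 1
    rw [pow_succ]

theorem d0_one : d0 (1 : F) one_ne_zero = 1 := by
  apply Subtype.ext
  change !![(1 : F), 0, 0; 0, (1 : F)⁻¹, 0; 0, 0, 1] = (1 : Matrix (Fin 3) (Fin 3) F)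
  ext i j
  fin_cases i <;> fin_cases j <;> simp

theorem d1_sq : d1 (-1 : F) (neg_ne_zero.2 one_ne_zero) ^ 2 = 1 := by
  rw [sq]
  apply Subtype.ext
  change !![1, 0, 0; 0, (-1 : F), 0; 0, 0, (-1 : F)⁻¹] * !![1, 0, 0; 0, (-1 : F), 0; 0, 0, (-1 : F)⁻¹] =
    (1 : Matrix (Fin 3) (Fin 3) F)
  ext i j
  fin_cases i <;> fin_cases j <;> simp [Matrix.mul_apply, Fin.sum_univ_three]

end sl3

section co

open Cfsg.Agent.TitsThree.KSideA (tv tv_of_ne tv_add tv_zero tv_neg tv_comm)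

theorem cj_eq {P Q : Subgroup Y} {g : Y} (h1 : ∀ x ∈ P, g * x * g⁻¹ ∈ Q) (h2 : ∀ x ∈ Q, g⁻¹ * x * g ∈ P) :
    cj g P = Q := by
  ext x
  rw [mem_cj]
  constructor
  · intro hx
    have := h1 _ hx
    have e : g * (g⁻¹ * x * g) * g⁻¹ = x := by group
    rwa [e] at this
  · exact h2 x

variable {F : Type} [Field F] {φ : SpecialLinearGroup (Fin 3) F →* Y} {k : Fin 2 → I} (C : Co X k F φ)

theorem cj_of_mul {P Q : Subgroup Y} {w : SpecialLinearGroup (Fin 3) F} {a b c d : Fin 3}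
    (hP : ∀ x, x ∈ P ↔ ∃ t, φ (tv a b t) = x) (hQ : ∀ x, x ∈ Q ↔ ∃ t, φ (tv c d t) = x)
    (h1 : ∀ t, ∃ t', w * tv a b t = tv c d t' * w) (h2 : ∀ t', ∃ t, w * tv a b t = tv c d t' * w) :
    cj (φ w) P = Q := by
  apply cj_eq
  · intro x hx
    obtain ⟨t, rfl⟩ := (hP x).1 hx
    obtain ⟨t', e⟩ := h1 t
    refine (hQ _).2 ⟨t', ?_⟩
    rw [← map_mul, e, map_mul, mul_inv_cancel_right]
  · intro x hx
    obtain ⟨t', rfl⟩ := (hQ x).1 hx
    obtain ⟨t, e⟩ := h2 t'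
    refine (hP _).2 ⟨t, ?_⟩
    rw [mul_assoc, ← map_mul φ (tv c d t'), ← e, map_mul, inv_mul_cancel_left]

include C in
theorem Co.mem {a b : Fin 3} (hab : a ≠ b) (x : Y) : x ∈ X (cr k a b) ↔ ∃ t, φ (tv a b t) = x := by
  have h1 : x ∈ X (cr k a b) ↔ x ∈ (X (cr k a b) : Set Y) := Iff.rfl
  rw [h1, C.root a b hab, Set.mem_range]
  simp only [tv_of_ne hab]

variable [Finite W] (R : RGD cs h r T n X)
include R C

theorem Co.d0_mem {s : F} (hs : s ≠ 0) : φ (d0 s hs) ∈ T := by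
  have hinj : Function.Injective fun t : F => φ (tv 1 0 t) := tv_injective C.ker (by decide)
  have e01 : cr k 0 1 = sr (k 0) := cr_succ k 0
  have e10 : cr k 1 0 = -sr (k 0) := by rw [← e01, cr_neg]
  have key : ∀ s : F, s ≠ 0 → ∃ t ∈ T, φ (w0 s) = t * n (k 0) := by
    intro s hs
    have e : φ (w0 s) = φ (tv 0 1 s) * φ (tv 1 0 (-s⁻¹)) * φ (tv 0 1 s) := by
      rw [← map_mul, ← map_mul]; rfl
    rw [e]
    have hP := Co.mem C (a := 0) (b := 1) (by decide)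
    have hQ := Co.mem C (a := 1) (b := 0) (by decide)
    rw [e01] at hP
    rw [e10] at hQ
    refine mu_mem R ((hP _).2 ⟨_, rfl⟩) ((hQ _).2 ⟨_, rfl⟩) ?_ ((hP _).2 ⟨_, rfl⟩) ?_ ?_
    · intro h1
      have h2 : (-s⁻¹ : F) = 0 := hinj (by
        change φ (tv 1 0 (-s⁻¹)) = φ (tv 1 0 0)
        rw [h1, tv_zero, map_one])
      exact hs (inv_eq_zero.1 (neg_eq_zero.1 h2))
    · rw [← e]
      refine cj_of_mul hP hQ (fun t => ⟨_, w0_a hs t⟩) (fun t' => ⟨-(t' * s ^ 2), ?_⟩)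
      rw [w0_a hs]
      congr 2
      field_simp
    · rw [← e]
      refine cj_of_mul hQ hP (fun t => ⟨_, w0_b hs t⟩) (fun t' => ⟨-(t' / s ^ 2), ?_⟩)
      rw [w0_b hs]
      congr 2
      field_simp
  obtain ⟨t, ht, e1⟩ := key s hs
  obtain ⟨t', ht', e2⟩ := key 1 one_ne_zero
  have e3 : φ (d0 s hs) = t * t'⁻¹ := by
    have h1 : d0 s hs = w0 s * (w0 1)⁻¹ := by rw [w0_eq hs]; group
    rw [h1, map_mul, map_inv, e1, e2]
    group
  rw [e3]
  exact mul_mem ht (inv_mem ht')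

theorem Co.d1_mem {s : F} (hs : s ≠ 0) : φ (d1 s hs) ∈ T := by
  have hinj : Function.Injective fun t : F => φ (tv 2 1 t) := tv_injective C.ker (by decide)
  have e12 : cr k 1 2 = sr (k 1) := cr_succ k 1
  have e21 : cr k 2 1 = -sr (k 1) := by rw [← e12, cr_neg]
  have key : ∀ s : F, s ≠ 0 → ∃ t ∈ T, φ (w1 s) = t * n (k 1) := by
    intro s hs
    have e : φ (w1 s) = φ (tv 1 2 s) * φ (tv 2 1 (-s⁻¹)) * φ (tv 1 2 s) := by
      rw [← map_mul, ← map_mul]; rfl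
    rw [e]
    have hP := Co.mem C (a := 1) (b := 2) (by decide)
    have hQ := Co.mem C (a := 2) (b := 1) (by decide)
    rw [e12] at hP
    rw [e21] at hQ
    refine mu_mem R ((hP _).2 ⟨_, rfl⟩) ((hQ _).2 ⟨_, rfl⟩) ?_ ((hP _).2 ⟨_, rfl⟩) ?_ ?_
    · intro h1
      have h2 : (-s⁻¹ : F) = 0 := hinj (by
        change φ (tv 2 1 (-s⁻¹)) = φ (tv 2 1 0)
        rw [h1, tv_zero, map_one])
      exact hs (inv_eq_zero.1 (neg_eq_zero.1 h2))
    · rw [← e]
      refine cj_of_mul hP hQ (fun t => ⟨_, w1_a hs t⟩) (fun t' => ⟨-(t' * s ^ 2), ?_⟩)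
      rw [w1_a hs]
      congr 2
      field_simp
    · rw [← e]
      refine cj_of_mul hQ hP (fun t => ⟨_, w1_b hs t⟩) (fun t' => ⟨-(t' / s ^ 2), ?_⟩)
      rw [w1_b hs]
      congr 2
      field_simp
  obtain ⟨t, ht, e1⟩ := key s hs
  obtain ⟨t', ht', e2⟩ := key 1 one_ne_zero
  have e3 : φ (d1 s hs) = t * t'⁻¹ := by
    have h1 : d1 s hs = w1 s * (w1 1)⁻¹ := by rw [w1_eq hs]; group
    rw [h1, map_mul, map_inv, e1, e2]
    group
  rw [e3]
  exact mul_mem ht (inv_mem ht')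

omit C in
/-- **A torus element of order `p` without fixed points on the root group of a node.** -/
theorem exists_t [Finite Y] {i j : I} (hM : M i j = 3) {p : ℕ} (hp : p.Prime)
    (hq : p ∣ Nat.card (X (sr i)) - 1) :
    ∃ t ∈ T, t ^ p = 1 ∧ ∀ u ∈ X (sr i), t * u = u * t → u = 1 := by
  obtain ⟨k, hk0, hk1, hK, hk⟩ := exists_chain hM
  obtain ⟨F, _, _, φ, C⟩ := exists_co R le_rfl k hk
  have hcard := C.card 0
  rw [hk0] at hcard
  rw [hcard] at hq
  have hinj : Function.Injective fun t : F => φ (tv 0 1 t) := tv_injective C.ker (by decide)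
  have e01 : cr k 0 1 = sr (k 0) := cr_succ k 0
  have hP := Co.mem C (a := 0) (b := 1) (by decide)
  rw [e01, hk0] at hP
  have hfix : ∀ {g : SpecialLinearGroup (Fin 3) F} {f : F → F}, (∀ t, g * tv 0 1 t = tv 0 1 (f t) * g) →
      (∀ t, f t = t → t = 0) → ∀ u ∈ X (sr i), φ g * u = u * φ g → u = 1 := by
    intro g f h1 h2 u hu h3
    obtain ⟨t, rfl⟩ := (hP u).1 hu
    rw [← map_mul, h1, map_mul] at h3
    have h4 : f t = t := hinj (mul_right_cancel h3)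
    rw [h2 t h4, tv_zero, map_one]
  rcases hp.eq_two_or_odd' with rfl | hodd
  · have h2 : (2 : F) ≠ 0 := by
      intro h2
      have h3 : CharP F 2 := CharTwo.of_one_ne_zero_of_two_eq_zero one_ne_zero h2
      obtain ⟨m, hp, hm⟩ := FiniteField.card F 2
      rw [Nat.card_eq_fintype_card, hm] at hq
      have h4 : 2 ∣ 2 ^ (m : ℕ) := dvd_pow_self 2 m.ne_zero
      have h5 : 1 ≤ 2 ^ (m : ℕ) := Nat.one_le_two_pow
      omega
    refine ⟨φ (d1 (-1) (neg_ne_zero.2 one_ne_zero)), Co.d1_mem C R _, ?_, hfix (f := fun t => -t) d1_tv ?_⟩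
    · rw [← map_pow, d1_sq, map_one]
    · intro t ht
      have h3 : 2 * t = 0 := by
        have h4 : -t = t := ht
        rw [two_mul]
        nth_rewrite 1 [← h4]
        exact neg_add_cancel t
      exact (mul_eq_zero.1 h3).resolve_left h2
  · have hu : p ∣ Nat.card Fˣ := by rwa [Nat.card_units]
    have : Fact p.Prime := ⟨hp⟩
    obtain ⟨z, hz⟩ := exists_prime_orderOf_dvd_card' p hu
    refine ⟨φ (d0 (z : F) z.ne_zero), Co.d0_mem C R _, ?_, hfix (f := fun t => (z : F) ^ 2 * t) (d0_tv z.ne_zero) ?_⟩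
    · rw [← map_pow, d0_pow]
      have h1 : (z : F) ^ p = 1 := by
        rw [← Units.val_pow_eq_pow_val, ← hz, pow_orderOf_eq_one, Units.val_one]
      have h2 : d0 ((z : F) ^ p) (pow_ne_zero p z.ne_zero) = d0 1 one_ne_zero := by
        congr 1
      rw [h2, d0_one, map_one]
    · intro t ht
      by_contra ht0
      have h1 : (z : F) ^ 2 = 1 := by
        have h2 : (z : F) ^ 2 * t = 1 * t := by rw [one_mul]; exact ht
        exact mul_right_cancel₀ ht0 h2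
      have h2 : z ^ 2 = 1 := by
        apply Units.ext
        rw [Units.val_pow_eq_pow_val, h1, Units.val_one]
      have h3 : p ∣ 2 := by rw [← hz]; exact orderOf_dvd_of_pow_eq_one h2
      have h4 := (Nat.prime_dvd_prime_iff_eq hp Nat.prime_two).1 h3
      subst h4
      exact absurd hodd (by decide)

omit C in
/-- **A `p`-subgroup of the torus without fixed points on `U`.** -/
theorem exists_Q [Finite Y] (hT : ∀ a ∈ T, ∀ b ∈ T, a * b = b * a) (hb : ∀ i, ∃ j, M i j = 3) {p : ℕ}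
    (hp : p.Prime) (hq : ∀ i, p ∣ Nat.card (X (sr i)) - 1) :
    ∃ Q : Subgroup Y, Q ≤ T ∧ IsPGroup p Q ∧ (∀ i, ∀ q ∈ Q, n i * q * (n i)⁻¹ ∈ Q) ∧
      ∀ u ∈ RGD.Sup X (RGD.Pos cs h), (∀ q ∈ Q, q * u = u * q) → u = 1 := by
  let Q : Subgroup Y :=
    { carrier := {t | t ∈ T ∧ t ^ p = 1}
      mul_mem' := by
        rintro a b ⟨ha, ha1⟩ ⟨hb, hb1⟩
        refine ⟨mul_mem ha hb, ?_⟩
        rw [(show Commute a b from hT a ha b hb).mul_pow, ha1, hb1, one_mul]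
      one_mem' := ⟨one_mem T, one_pow p⟩
      inv_mem' := by
        rintro a ⟨ha, ha1⟩
        exact ⟨inv_mem ha, by rw [inv_pow, ha1, inv_one]⟩ }
  have hQ : ∀ t, t ∈ Q ↔ t ∈ T ∧ t ^ p = 1 := fun _ => Iff.rfl
  have hn : ∀ i, ∀ q ∈ Q, n i * q * (n i)⁻¹ ∈ Q := by
    intro i q hq
    obtain ⟨h1, h2⟩ := (hQ q).1 hq
    refine (hQ _).2 ⟨(Subgroup.mem_normalizer_iff.1 (R.nsys.norm i) q).1 h1, ?_⟩
    rw [conj_pow, h2, mul_one, mul_inv_cancel]
  refine ⟨Q, fun t ht => ht.1, ?_, hn, H40.GGR.cent_U_of_simple R Q (fun t ht => ht.1) hn ?_⟩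
  · intro t
    refine ⟨1, ?_⟩
    rw [pow_one]
    exact Subtype.ext t.2.2
  · intro i u hu hc
    obtain ⟨j, hj⟩ := hb i
    obtain ⟨t, ht, htp, h1⟩ := exists_t R hj hp (hq i)
    exact h1 u hu (hc t ⟨ht, htp⟩)

end co

end Cfsg.Agent.H64.Dl
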